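import Cfsg.Agent.Solvable.Basic
import Mathlib.GroupTheory.PGroup

/-!
# The average fixed point space of a solvable group is at most half

Let a finite abelian group `N` act coprimely and without non-trivial fixed points on a finite abelian
group `V`, and let `g` normalise `N`.  Then the product over the coset `g N` of the squared numbers
of fixed points is at most `|V| ^ |N|`.  Consequently a solvable group acting irreducibly and
non-trivially on a `p`-group has fixed spaces of average dimension at most half of the dimension.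
-/

set_option autoImplicit false
set_option linter.style.haveILetI false

namespace CfsgLib.PrimitiveClassSize

universe u v

variable {V : Type v} [CommGroup V] {X : Type u} [Group X]

/-- The fixed points of a subgroup. -/
def fixOf (φ : X →* MulAut V) (K : Subgroup X) : Subgroup V where
  carrier := {v | ∀ k ∈ K, φ k v = v}
  one_mem' := fun k _ => map_one (φ k)
  mul_mem' := fun {a b} ha hb k hk => by rw [map_mul, ha k hk, hb k hk]
  inv_mem' := fun {a} ha k hk => by rw [map_inv, ha k hk]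

/-- The fixed points of an element. -/
def fix1 (φ : X →* MulAut V) (x : X) : Subgroup V where
  carrier := {v | φ x v = v}
  one_mem' := map_one (φ x)
  mul_mem' := fun {a b} (ha : φ x a = a) (hb : φ x b = b) => by
    show φ x (a * b) = a * b
    rw [map_mul, ha, hb]
  inv_mem' := fun {a} (ha : φ x a = a) => by
    show φ x a⁻¹ = a⁻¹
    rw [map_inv, ha]

/-- The norm map of a subgroup. -/
def normHom (φ : X →* MulAut V) (K : Subgroup X) [Fintype K] : V →* V where
  toFun v := ∏ k : K, φ k v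
  map_one' := by simp
  map_mul' a b := by simp [Finset.prod_mul_distrib]

theorem normHom_apply (φ : X →* MulAut V) (K : Subgroup X) [Fintype K] (v : V) :
    normHom φ K v = ∏ k : K, φ k v := rfl

theorem normHom_mem_fixOf (φ : X →* MulAut V) (K : Subgroup X) [Fintype K] (v : V) :
    normHom φ K v ∈ fixOf φ K := fun k hk => by
  rw [normHom_apply, map_prod]
  refine Fintype.prod_equiv (Equiv.mulLeft ⟨k, hk⟩) _ _ fun a => ?_
  rw [← MulAut.mul_apply, ← map_mul]
  rfl

theorem normHom_of_fixed (φ : X →* MulAut V) (K : Subgroup X) [Fintype K] {v : V}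
    (hv : v ∈ fixOf φ K) : normHom φ K v = v ^ Nat.card K := by
  rw [normHom_apply, Finset.prod_congr rfl fun (k : K) _ => hv k k.2, Finset.prod_const,
    Finset.card_univ, Nat.card_eq_fintype_card]

theorem normHom_mem (φ : X →* MulAut V) (K : Subgroup X) [Fintype K] {W : Subgroup V}
    (hW : ∀ k ∈ K, ∀ w ∈ W, φ k w ∈ W) {v : V} (hv : v ∈ W) : normHom φ K v ∈ W :=
  W.prod_mem fun k _ => hW k k.2 v hv

theorem card_mul_le_of_inf_eq_bot [Finite V] {A B C : Subgroup V} (hA : A ≤ C) (hB : B ≤ C)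
    (h : A ⊓ B = ⊥) : Nat.card A * Nat.card B ≤ Nat.card C := by
  rw [← Nat.card_prod]
  refine Nat.card_le_card_of_injective
    (fun z : A × B => (⟨z.1 * z.2, C.mul_mem (hA z.1.2) (hB z.2.2)⟩ : C)) ?_
  rintro ⟨a, b⟩ ⟨a', b'⟩ hz
  have hz : (a : V) * b = a' * b' := congrArg Subtype.val hz
  exact Subgroup.mul_injective_of_disjoint (disjoint_iff.mpr h) hz

theorem eq_one_of_pow_eq_one [Finite V] {m : ℕ} (hm : m.Coprime (Nat.card V)) {v : V}
    (h : v ^ m = 1) : v = 1 :=
  orderOf_eq_one_iff.mp (Nat.eq_one_of_dvd_coprimes hm (orderOf_dvd_of_pow_eq_one h)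
    (orderOf_dvd_natCard v))

/-- The coset inequality, relative to an invariant subgroup `W`. -/
theorem prod_coset_sq_le [Finite V] [Finite X] (φ : X →* MulAut V) (g : X) (N : Subgroup X)
    [Fintype N] (hg : ∀ n ∈ N, g * n * g⁻¹ ∈ N) (hcomm : ∀ a ∈ N, ∀ b ∈ N, a * b = b * a)
    (hcop : (Nat.card N).Coprime (Nat.card V)) (hfix : fixOf φ N = ⊥)
    (W : Subgroup V) (hWg : ∀ v ∈ W, φ g v ∈ W) (hWN : ∀ n ∈ N, ∀ v ∈ W, φ n v ∈ W) :
    (∏ n : N, Nat.card ↥(W ⊓ fix1 φ (g * n))) ^ 2 ≤ Nat.card W ^ Fintype.card N := by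
  classical
  induction hc : Nat.card W using Nat.strong_induction_on generalizing W with
  | _ m ih =>
  subst hc
  by_cases hW : W = ⊥
  · subst hW
    simp
  -- a maximal subgroup of `N` with non-trivial fixed points
  obtain ⟨H, -, hHmax⟩ := Finite.exists_le_maximal
    (p := fun H : Subgroup X => H ≤ N ∧ W ⊓ fixOf φ H ≠ ⊥) (a := ⊥)
    ⟨bot_le, by
      rwa [inf_eq_left.mpr fun v _ k hk => by rw [Subgroup.mem_bot.mp hk, map_one]; rfl]⟩
  obtain ⟨hHN, hU0⟩ := hHmax.prop
  set U := W ⊓ fixOf φ H with hUdef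
  -- no vector of `W` is fixed by `H` and by an element outside `H`
  have hout : ∀ k ∈ N, k ∉ H → ∀ v ∈ U, φ k v = v → v = 1 := by
    intro k hk hkH v hv hkv
    by_contra hne
    refine hkH (hHmax.le_of_ge (y := H ⊔ Subgroup.zpowers k)
      ⟨sup_le hHN (Subgroup.zpowers_le.mpr hk), fun hbot => hne ?_⟩ le_sup_left
      (Subgroup.mem_sup_right (Subgroup.mem_zpowers k)))
    have hstab : H ⊔ Subgroup.zpowers k ≤ (MulAction.stabilizer (MulAut V) v).comap φ :=
      sup_le (fun h hh => hv.2 h hh) (Subgroup.zpowers_le.mpr hkv)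
    exact Subgroup.mem_bot.mp (hbot ▸ (⟨hv.1, fun a ha => hstab ha⟩ :
      v ∈ W ⊓ fixOf φ (H ⊔ Subgroup.zpowers k)))
  -- the conjugates of `H`
  let K : ℕ → Subgroup X := fun i => H.map (MulAut.conj (g ^ i)).toMonoidHom
  have hK0 : K 0 = H := by
    ext a
    simp [K]
  haveI hKfin : ∀ i, Fintype (K i) := fun i => Fintype.ofFinite _
  have hKsucc : ∀ i a, a ∈ K i → g * a * g⁻¹ ∈ K (i + 1) := by
    rintro i _ ⟨a, ha, rfl⟩
    exact ⟨a, ha, by simp [pow_succ', mul_assoc]⟩
  have hKN : ∀ i, K i ≤ N := by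
    intro i
    induction i with
    | zero => rwa [hK0]
    | succ i hi =>
      rintro _ ⟨a, ha, rfl⟩
      have h1 := hg _ (hi (⟨a, ha, rfl⟩ : MulAut.conj (g ^ i) a ∈ K i))
      simpa [pow_succ', mul_assoc] using h1
  have hKcard : ∀ i, Nat.card (K i) = Nat.card H := fun i =>
    Subgroup.card_map_of_injective (MulAut.conj (g ^ i)).injective
  have hshift : ∀ i v, φ g (normHom φ (K i) v) = normHom φ (K (i + 1)) (φ g v) := by
    intro i v
    simp only [normHom_apply, map_prod]
    have hbij : Function.Bijective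
        (fun a : K i => (⟨g * a * g⁻¹, hKsucc i a a.2⟩ : K (i + 1))) := by
      rw [Fintype.bijective_iff_injective_and_card]
      refine ⟨fun a b hab => Subtype.ext (by simpa using congrArg Subtype.val hab), ?_⟩
      rw [← Nat.card_eq_fintype_card, ← Nat.card_eq_fintype_card, hKcard, hKcard]
    refine Fintype.prod_bijective _ hbij _ _ fun a => ?_
    rw [← MulAut.mul_apply, ← MulAut.mul_apply, ← map_mul, ← map_mul, inv_mul_cancel_right]
  have hnormN : ∀ i, ∀ n ∈ N, ∀ v, φ n (normHom φ (K i) v) = normHom φ (K i) (φ n v) := by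
    intro i n hn v
    simp only [normHom_apply, map_prod]
    refine Finset.prod_congr rfl fun a _ => ?_
    rw [← MulAut.mul_apply, ← MulAut.mul_apply, ← map_mul, ← map_mul, hcomm n hn a (hKN i a.2)]
  -- the common kernel of the norm maps
  let T : Subgroup V := W ⊓ ⨅ i : ℕ, (normHom φ (K i)).ker
  have hTmem : ∀ v, v ∈ T ↔ v ∈ W ∧ ∀ i, normHom φ (K i) v = 1 := fun v => by
    simp [T, Subgroup.mem_iInf, MonoidHom.mem_ker]
  have hTN : ∀ n ∈ N, ∀ v ∈ T, φ n v ∈ T := fun n hn v hv => by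
    obtain ⟨hvW, hv1⟩ := (hTmem v).mp hv
    exact (hTmem _).mpr ⟨hWN n hn v hvW, fun i => by rw [← hnormN i n hn, hv1, map_one]⟩
  have hTg : ∀ v ∈ T, φ g v ∈ T := fun v hv => by
    obtain ⟨hvW, hv1⟩ := (hTmem v).mp hv
    refine (hTmem _).mpr ⟨hWg v hvW, fun i => ?_⟩
    have hper : K i = K (i + orderOf g - 1 + 1) := by
      rw [Nat.sub_add_cancel (le_add_left (orderOf_pos g))]
      simp only [K, pow_add, pow_orderOf_eq_one, mul_one]
    have h := hshift (i + orderOf g - 1) v
    rw [hv1, map_one] at h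
    simp only [normHom_apply] at h ⊢
    rw [h]
    exact Fintype.prod_equiv (Equiv.setCongr (congrArg SetLike.coe hper)) _ _ fun a => rfl
  have hUmem : ∀ v ∈ U, ∀ (hHfix : Nat.card H ∣ Nat.card N), v ^ Nat.card H = 1 → v = 1 :=
    fun v _ hd h => eq_one_of_pow_eq_one (hcop.coprime_dvd_left hd) h
  have hHdvd : Nat.card H ∣ Nat.card N := Subgroup.card_dvd_of_le hHN
  have hnormH : ∀ v, normHom φ (K 0) v ∈ fixOf φ H := fun v => hK0 ▸ normHom_mem_fixOf φ (K 0) v
  have hUpow : ∀ v ∈ U, normHom φ (K 0) v = v ^ Nat.card H := fun v hv => by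
    rw [normHom_of_fixed φ (K 0) (hK0 ▸ hv.2), hKcard]
  have hUT : U ⊓ T = ⊥ := (Subgroup.eq_bot_iff_forall _).mpr fun v hv => by
    have h1 := ((hTmem v).mp hv.2).2 0
    rw [hUpow v hv.1] at h1
    exact hUmem v hv.1 hHdvd h1
  have hTlt : Nat.card T < Nat.card W := by
    have h1 := card_mul_le_of_inf_eq_bot (A := U) (B := T) inf_le_left inf_le_left hUT
    have h2 : 1 < Nat.card U := U.one_lt_card_iff_ne_bot.mpr hU0
    have h3 : 0 < Nat.card T := Nat.card_pos
    nlinarith
  have hIH := ih _ hTlt T hTg hTN rfl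
  -- fixed points of a coset element with trivial norms lie in `T`
  have hker : ∀ n ∈ N, ∀ v ∈ W, φ (g * n) v = v → normHom φ (K 0) v = 1 →
      v ∈ T ⊓ fix1 φ (g * n) := by
    intro n hn v hv hxv h0
    refine ⟨(hTmem v).mpr ⟨hv, fun i => ?_⟩, hxv⟩
    induction i with
    | zero => exact h0
    | succ i hi =>
      rw [← hxv, map_mul, MulAut.mul_apply, ← hshift i, ← hnormN i n hn, hi, map_one, map_one]
  -- the estimate for one element of the coset
  have hfibre : ∀ (A : Subgroup V) (n : N),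
      (∀ v ∈ W, φ (g * n) v = v → normHom φ (K 0) v ∈ A) →
      Nat.card ↥(W ⊓ fix1 φ (g * n)) ≤ Nat.card A * Nat.card ↥(T ⊓ fix1 φ (g * n)) := by
    intro A n hA
    let F := (normHom φ (K 0)).comp (W ⊓ fix1 φ (g * n)).subtype
    rw [Subgroup.card_eq_card_quotient_mul_card_subgroup F.ker,
      Nat.card_congr (QuotientGroup.quotientKerEquivRange F).toEquiv]
    refine Nat.mul_le_mul ?_ ?_
    · refine Subgroup.card_le_of_le ?_
      rintro _ ⟨v, rfl⟩
      exact hA v v.2.1 v.2.2
    · refine Nat.card_le_card_of_injective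
        (fun v => (⟨v.1.1, hker n n.2 _ v.1.2.1 v.1.2.2 v.2⟩ : ↥(T ⊓ fix1 φ (g * n)))) ?_
      intro a b hab
      exact Subtype.ext (Subtype.ext (by simpa using hab))
  by_cases hnorm : K 1 = H
  · -- `g` normalises `H`
    obtain ⟨k, hk, hkH⟩ : ∃ k ∈ N, k ∉ H := by
      by_contra! hall
      exact hU0 (eq_bot_iff.mpr fun v hv => hfix ▸ (fun a ha => hv.2 a (hall a ha) :
        v ∈ fixOf φ N))
    have hpair : ∀ n : N, Nat.card ↥(U ⊓ fix1 φ (g * n)) *
        Nat.card ↥(U ⊓ fix1 φ (g * (n * ⟨k, hk⟩ : N))) ≤ Nat.card U := by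
      intro n
      refine card_mul_le_of_inf_eq_bot inf_le_left inf_le_left
        ((Subgroup.eq_bot_iff_forall _).mpr fun v ⟨⟨hvU, h1⟩, ⟨_, h2⟩⟩ => hout k hk hkH v hvU ?_)
      have h1' : φ (g * n) v = v := h1
      have h2' : φ (g * n) (φ k v) = v := by
        rw [← MulAut.mul_apply, ← map_mul, mul_assoc]
        exact h2
      exact (φ (g * n)).injective (h2'.trans h1'.symm)
    have hsq : (∏ n : N, Nat.card ↥(U ⊓ fix1 φ (g * n))) ^ 2 ≤ Nat.card U ^ Fintype.card N := by
      rw [sq]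
      nth_rewrite 2 [← Equiv.prod_comp (Equiv.mulRight (⟨k, hk⟩ : N))]
      rw [← Finset.prod_mul_distrib]
      refine (Finset.prod_le_prod' fun n _ => hpair n).trans ?_
      rw [Finset.prod_const, Finset.card_univ]
    have hb : ∀ n : N, Nat.card ↥(W ⊓ fix1 φ (g * n)) ≤
        Nat.card ↥(U ⊓ fix1 φ (g * n)) * Nat.card ↥(T ⊓ fix1 φ (g * n)) := by
      intro n
      refine hfibre _ n fun v hv hxv => ⟨⟨normHom_mem φ (K 0) (fun a ha => hWN a (hKN 0 ha)) hv,
        hnormH v⟩, ?_⟩
      show φ (g * n) (normHom φ (K 0) v) = normHom φ (K 0) v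
      have hK10 : K 1 = K 0 := hnorm.trans hK0.symm
      rw [map_mul, MulAut.mul_apply, hnormN 0 n n.2, hshift 0, ← MulAut.mul_apply, ← map_mul, hxv]
      simp only [normHom_apply]
      exact Fintype.prod_equiv (Equiv.setCongr (congrArg SetLike.coe hK10)) _ _ fun a => rfl
    calc (∏ n : N, Nat.card ↥(W ⊓ fix1 φ (g * n))) ^ 2
        ≤ ((∏ n : N, Nat.card ↥(U ⊓ fix1 φ (g * n))) *
            ∏ n : N, Nat.card ↥(T ⊓ fix1 φ (g * n))) ^ 2 := by
          rw [← Finset.prod_mul_distrib]
          exact Nat.pow_le_pow_left (Finset.prod_le_prod' fun n _ => hb n) 2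
      _ ≤ Nat.card U ^ Fintype.card N * Nat.card T ^ Fintype.card N := by
          rw [mul_pow]; exact Nat.mul_le_mul hsq hIH
      _ ≤ Nat.card W ^ Fintype.card N := by
          rw [← mul_pow]
          exact Nat.pow_le_pow_left (card_mul_le_of_inf_eq_bot inf_le_left inf_le_left hUT) _
  · -- `g` moves `H`
    let U' := W ⊓ fixOf φ (K 1)
    obtain ⟨k, hk1, hkH⟩ : ∃ k ∈ K 1, k ∉ H := by
      by_contra! hall
      exact hnorm (Subgroup.eq_of_le_of_card_ge hall (hKcard 1).ge)
    have hdisj : ∀ v ∈ W, v ∈ fixOf φ H → v ∈ fixOf φ (K 1) → v = 1 := fun v hv hH h1 =>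
      hout k (hKN 1 hk1) hkH v ⟨hv, hH⟩ (h1 k hk1)
    have hcross1 : ∀ v ∈ U, normHom φ (K 1) v = 1 := fun v hv =>
      hdisj _ (normHom_mem φ _ (fun a ha => hWN a (hKN 1 ha)) hv.1)
        (fun h hh => by rw [hnormN 1 h (hHN hh), hv.2 h hh]) (normHom_mem_fixOf φ _ v)
    have hcross0 : ∀ v ∈ U', normHom φ (K 0) v = 1 := fun v hv =>
      hdisj _ (normHom_mem φ _ (fun a ha => hWN a (hKN 0 ha)) hv.1) (hnormH v)
        (fun h hh => by rw [hnormN 0 h (hKN 1 hh), hv.2 h hh])
    have hU'card : Nat.card U ≤ Nat.card U' := by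
      refine Nat.card_le_card_of_injective (fun v => (⟨φ g v, hWg _ v.2.1, ?_⟩ : U')) ?_
      · rintro _ ⟨a, ha, rfl⟩
        rw [← MulAut.mul_apply, ← map_mul]
        simp only [MulEquiv.coe_toMonoidHom, MulAut.conj_apply, pow_one, inv_mul_cancel_right]
        rw [map_mul, MulAut.mul_apply, v.2.2 a ha]
      · intro a b hab
        exact Subtype.ext ((φ g).injective (congrArg Subtype.val hab))
    have hbig : Nat.card U * Nat.card U' * Nat.card T ≤ Nat.card W := by
      rw [← Nat.card_prod, ← Nat.card_prod]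
      refine Nat.card_le_card_of_injective (fun z : (U × U') × T =>
        (⟨z.1.1 * z.1.2 * z.2, W.mul_mem (W.mul_mem z.1.1.2.1 z.1.2.2.1) z.2.2.1⟩ : W)) ?_
      rintro ⟨⟨a, b⟩, c⟩ ⟨⟨a', b'⟩, c'⟩ hz
      have hz : (a : V) * b * c = a' * b' * c' := congrArg Subtype.val hz
      have e0 := congrArg (normHom φ (K 0)) hz
      have e1 := congrArg (normHom φ (K 1)) hz
      rw [map_mul, map_mul, map_mul, map_mul, hcross0 _ b.2, hcross0 _ b'.2,
        ((hTmem _).mp c.2).2, ((hTmem _).mp c'.2).2, mul_one, mul_one, mul_one, mul_one,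
        hUpow _ a.2, hUpow _ a'.2] at e0
      have ha : (a : V) = a' := div_eq_one.mp
        (hUmem _ (U.div_mem a.2 a'.2) hHdvd (by rw [div_pow, e0, div_self']))
      rw [map_mul, map_mul, map_mul, map_mul, hcross1 _ a.2, hcross1 _ a'.2,
        ((hTmem _).mp c.2).2, ((hTmem _).mp c'.2).2, mul_one, mul_one, one_mul, one_mul,
        normHom_of_fixed φ _ b.2.2, normHom_of_fixed φ _ b'.2.2, hKcard] at e1
      have hb : (b : V) = b' := div_eq_one.mp
        (eq_one_of_pow_eq_one (hcop.coprime_dvd_left hHdvd) (by rw [div_pow, e1, div_self']))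
      rw [ha, hb] at hz
      exact Prod.ext (Prod.ext (Subtype.ext ha) (Subtype.ext hb))
        (Subtype.ext (mul_left_cancel hz))
    have hb : ∀ n : N, Nat.card ↥(W ⊓ fix1 φ (g * n)) ≤
        Nat.card U * Nat.card ↥(T ⊓ fix1 φ (g * n)) := fun n =>
      hfibre _ n fun v hv _ => ⟨normHom_mem φ _ (fun a ha => hWN a (hKN 0 ha)) hv, hnormH v⟩
    calc (∏ n : N, Nat.card ↥(W ⊓ fix1 φ (g * n))) ^ 2
        ≤ (∏ n : N, Nat.card U * Nat.card ↥(T ⊓ fix1 φ (g * n))) ^ 2 :=
          Nat.pow_le_pow_left (Finset.prod_le_prod' fun n _ => hb n) 2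
      _ = (Nat.card U * Nat.card U) ^ Fintype.card N *
            (∏ n : N, Nat.card ↥(T ⊓ fix1 φ (g * n))) ^ 2 := by
          rw [Finset.prod_mul_distrib, Finset.prod_const, Finset.card_univ]; ring
      _ ≤ (Nat.card U * Nat.card U') ^ Fintype.card N * Nat.card T ^ Fintype.card N :=
          Nat.mul_le_mul (Nat.pow_le_pow_left (Nat.mul_le_mul_left _ hU'card) _) hIH
      _ ≤ Nat.card W ^ Fintype.card N := by
          rw [← mul_pow]; exact Nat.pow_le_pow_left hbig _

/-- A solvable group acting irreducibly and non-trivially on an abelian `p`-group: the fixed spaces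
have on average at most half the dimension. -/
theorem sum_fixed_le [Finite V] {p : ℕ} [Fact p.Prime] (hp : IsPGroup p V) {G : Type*} [Group G]
    [Fintype G] (φ : G →* MulAut V) (hsolv : Group.IsSolvable G)
    (hirr : ∀ W : Subgroup V, (∀ g, ∀ v ∈ W, φ g v ∈ W) → W = ⊥ ∨ W = ⊤) (hne : φ ≠ 1) :
    2 * ∑ g : G, (Nat.card (fix1 φ g)).factorization p ≤
      Fintype.card G * (Nat.card V).factorization p := by
  classical
  have hpp := (Fact.out : p.Prime)
  haveI : Nontrivial φ.range := (Subgroup.nontrivial_iff_ne_bot _).mpr fun h =>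
    hne (MonoidHom.ext fun g => Subgroup.mem_bot.mp (h ▸ (⟨g, rfl⟩ : φ g ∈ φ.range)))
  haveI : Finite φ.range := Finite.of_surjective _ φ.rangeRestrict_surjective
  haveI : Group.IsSolvable φ.range :=
    haveI := hsolv
    Group.isSolvable_of_surjective φ.rangeRestrict_surjective
  obtain ⟨R, hRn, hR0, hRmin⟩ := CfsgLib.Solvable.exists_minimal_normal (G := φ.range)
  haveI := hRn
  haveI := Fintype.ofFinite R
  have hcomm := CfsgLib.Solvable.mul_comm_of_minimal_normal hR0 hRmin
  obtain ⟨r, hr, hRp⟩ := CfsgLib.Solvable.exists_isPGroup_of_minimal_normal hR0 hRmin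
  haveI := Fact.mk hr
  let ψ := φ.range.subtype
  -- no fixed points
  have hfix : fixOf ψ R = ⊥ := by
    refine (hirr (fixOf ψ R) ?_).resolve_right fun htop => ?_
    · intro g v hv k hk
      have h1 := hv _ (hRn.conj_mem k hk (φ.rangeRestrict g)⁻¹)
      rw [map_mul, map_mul, MulAut.mul_apply, MulAut.mul_apply, inv_inv, map_inv] at h1
      exact ((MulAut.apply_inv_self V (φ g) _).symm.trans (congrArg (φ g) h1))
    · refine hR0 ((Subgroup.eq_bot_iff_forall _).mpr fun k hk => Subtype.ext (MulEquiv.ext fun v => ?_))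
      exact (htop ▸ Subgroup.mem_top v : v ∈ fixOf ψ R) k hk
  obtain ⟨d, hd⟩ := IsPGroup.iff_card.mp hp
  have hcop : (Nat.card R).Coprime (Nat.card V) := by
    obtain ⟨a, ha⟩ := IsPGroup.iff_card.mp hRp
    rw [ha, hd]
    refine ((Nat.coprime_primes hr hpp).mpr fun hrp => ?_).pow a d
    subst hrp
    haveI : Nontrivial V := by
      by_contra hs
      rw [not_nontrivial_iff_subsingleton] at hs
      exact hne (MonoidHom.ext fun g => MulEquiv.ext fun v => Subsingleton.elim _ _)
    letI : MulAction R V := MulAction.compHom V (ψ.comp R.subtype)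
    obtain ⟨v, hv, hv1⟩ := hRp.exists_fixed_point_of_prime_dvd_card_of_fixed_point V
      (hp.card_eq_or_dvd.resolve_left Finite.one_lt_card.ne') (a := 1)
      (fun k => map_one (ψ (k : φ.range)))
    exact hv1 (Subgroup.mem_bot.mp (hfix ▸ (fun k hk => hv ⟨k, hk⟩ : v ∈ fixOf ψ R))).symm
  let c : MulAut V → ℕ := fun a => (Nat.card (fix1 (MonoidHom.id (MulAut V)) a)).factorization p
  have hc : ∀ g, (Nat.card (fix1 φ g)).factorization p = c (φ g) := fun g => rfl
  -- one coset
  have hcoset : ∀ g : G,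
      2 * ∑ k : R, c (φ g * ((k : φ.range) : MulAut V)) ≤ Fintype.card R * d := by
    intro g
    have h := prod_coset_sq_le ψ (φ.rangeRestrict g) R (fun k hk => hRn.conj_mem k hk _) hcomm hcop
      hfix ⊤ (fun v _ => Subgroup.mem_top _) (fun _ _ v _ => Subgroup.mem_top _)
    have hcard : ∀ k : R, Nat.card ↥((⊤ : Subgroup V) ⊓ fix1 ψ (φ.rangeRestrict g * k)) =
        p ^ c (φ g * ((k : φ.range) : MulAut V)) := by
      intro k
      rw [top_inf_eq]
      obtain ⟨e, he⟩ := IsPGroup.iff_card.mp (hp.to_subgroup (fix1 ψ (φ.rangeRestrict g * k)))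
      rw [he]
      congr 1
      show e = (Nat.card (fix1 ψ (φ.rangeRestrict g * k))).factorization p
      rw [he, hpp.factorization_pow, Finsupp.single_eq_same]
    rw [Finset.prod_congr rfl fun k _ => hcard k, Finset.prod_pow_eq_pow_sum, ← pow_mul,
      Subgroup.card_top, hd, ← pow_mul, Nat.pow_le_pow_iff_right hpp.one_lt] at h
    linarith
  -- sum over all cosets
  have hlift : ∀ k : R, ∃ g : G, φ g = ((k : φ.range) : MulAut V) := fun k => (k : φ.range).2
  choose s hs using hlift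
  have hkey : ∀ k : R, ∑ g : G, c (φ g * ((k : φ.range) : MulAut V)) = ∑ g : G, c (φ g) := by
    intro k
    refine Fintype.sum_equiv (Equiv.mulRight (s k)) _ _ fun g => ?_
    rw [Equiv.coe_mulRight, map_mul, hs]
  have hsum : 2 * (Fintype.card R * ∑ g : G, c (φ g)) ≤ Fintype.card G * (Fintype.card R * d) := by
    have h := Finset.sum_le_sum (s := Finset.univ) fun g _ => hcoset g
    rw [← Finset.mul_sum, Finset.sum_comm, Finset.sum_congr rfl fun k _ => hkey k,
      Finset.sum_const, Finset.sum_const, Finset.card_univ, Finset.card_univ] at h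
    simpa using h
  rw [hd, hpp.factorization_pow, Finsupp.single_eq_same,
    Finset.sum_congr rfl fun g _ => hc g]
  refine Nat.le_of_mul_le_mul_left ?_ (Fintype.card_pos : 0 < Fintype.card R)
  linarith

end CfsgLib.PrimitiveClassSize
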