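import Cfsg.Agent.PrimitiveClassSize.Average
import Cfsg.Agent.CharactersDeep.ExtensionCriteria
import Cfsg.Agent.CharactersDeep.Clifford
import Cfsg.Agent.OddOrderChar.Reciprocity
import Cfsg.Agent.Codegree.Induced

/-!
# Degrees of primitive characters and class sizes in solvable groups

For a primitive character `χ` of a solvable group and a prime `p`, the average over `g` of the
`p`-exponent of the class size of `g` is at least the `p`-exponent of `χ 1`.
-/

set_option autoImplicit false
set_option linter.style.haveILetI false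

namespace CfsgLib.PrimitiveClassSize

open CfsgLib.Characters CfsgLib.OddOrderChar CfsgLib.CharactersDeep

universe u

variable {G : Type u} [Group G]

theorem card_eq_map_mul_inf [Finite G] {Q : Type*} [Group Q] (f : G →* Q) (A : Subgroup G) :
    Nat.card A = Nat.card (A.map f) * Nat.card ↥(A ⊓ f.ker) := by
  let F := f.comp A.subtype
  rw [Subgroup.card_eq_card_quotient_mul_card_subgroup F.ker,
    Nat.card_congr (QuotientGroup.quotientKerEquivRange F).toEquiv]
  congr 1
  · rw [show F.range = A.map f from by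
      ext x
      simp [F, MonoidHom.mem_range, Subgroup.mem_map]]
  · exact Nat.card_congr
      { toFun := fun a => ⟨a.1.1, a.1.2, a.2⟩
        invFun := fun a => ⟨⟨a.1, a.2.1⟩, a.2.2⟩
        left_inv := fun a => rfl
        right_inv := fun a => rfl }

variable [Fintype G]

/-- Constituents of a primitive character on normal subgroups are invariant. -/
theorem invariant_of_primitive {χ : G → ℂ} (hχ : Cfsg.IsIrrCharacter G χ)
    (hprim : ¬ ∃ (H : Subgroup G), H ≠ ⊤ ∧ ∃ θ : ↥H → ℂ,
      Cfsg.IsCharacter ↥H θ ∧ Cfsg.indFun H θ = χ)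
    (N : Subgroup G) [N.Normal] [Fintype N] {θ : N → ℂ} (hθ : Cfsg.IsIrrCharacter N θ)
    (h : Cfsg.classInner (fun n : N => χ n) θ ≠ 0) (g : G) : conjBy N θ g = θ := by
  classical
  let T : Subgroup G :=
    { carrier := {g | conjBy N θ g = θ}
      one_mem' := conjBy_one N θ
      mul_mem' := fun {a b} ha hb => by
        simp only [Set.mem_ofPred_eq] at ha hb ⊢
        rw [← conjBy_mul, ha, hb]
      inv_mem' := fun {a} ha => by
        simp only [Set.mem_ofPred_eq] at ha ⊢
        conv_lhs => rw [← ha]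
        rw [conjBy_mul, mul_inv_cancel, conjBy_one] }
  have hT : ∀ g, g ∈ T ↔ conjBy N θ g = θ := fun g => Iff.rfl
  have hNT : N ≤ T := fun m hm => funext fun n =>
    (congrArg θ (Subtype.ext (by simp [mul_assoc]) :
      (⟨m * n * m⁻¹, _⟩ : N) = ⟨m, hm⟩ * n * ⟨m, hm⟩⁻¹)).trans
      (isClassFunction_of_isIrr hθ n ⟨m, hm⟩)
  obtain ⟨ψ, e, -, hψ, hind, -, -⟩ := Clifford.exists_induced_from_inertia N hθ T hT hNT hχ h
  by_contra hg
  exact hprim ⟨T, fun htop => hg ((hT g).mp (htop ▸ Subgroup.mem_top g)), ψ,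
    isCharacter_of_isIrr hψ, hind⟩

/-- The restriction of a primitive character to a normal subgroup is homogeneous. -/
theorem exists_homogeneous {χ : G → ℂ} (hχ : Cfsg.IsIrrCharacter G χ)
    (hprim : ¬ ∃ (H : Subgroup G), H ≠ ⊤ ∧ ∃ θ : ↥H → ℂ,
      Cfsg.IsCharacter ↥H θ ∧ Cfsg.indFun H θ = χ)
    (N : Subgroup G) [N.Normal] [Fintype N] :
    ∃ (θ : N → ℂ) (a : ℕ), Cfsg.IsIrrCharacter N θ ∧ 0 < a ∧ (fun n : N => χ n) = (a : ℂ) • θ ∧
      ∀ g, conjBy N θ g = θ := by
  obtain ⟨θ, hθ, hne⟩ := OddOrderChar.exists_constituent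
    (isCharacter_restrict N (isCharacter_of_isIrr hχ))
    (fun h0 => irr_one_ne_zero hχ (congrFun h0 1))
  have hinv := invariant_of_primitive hχ hprim N hθ hne
  obtain ⟨a, ha, heq, -⟩ := Clifford.restrict_eq_smul N hχ hθ hinv hne
  exact ⟨θ, a, hθ, ha, heq, hinv⟩

/-- The ramification between two normal subgroups with invariant constituents. -/
theorem exists_ramification {χ : G → ℂ} (N₀ N : Subgroup G) [N₀.Normal] [Fintype N₀] [Fintype N]
    (hle : N₀ ≤ N) {θ : N → ℂ} (hθ : Cfsg.IsIrrCharacter N θ) {θ₀ : N₀ → ℂ}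
    (hθ₀ : Cfsg.IsIrrCharacter N₀ θ₀) (hinv : ∀ g, conjBy N₀ θ₀ g = θ₀) {a a₀ : ℕ} (ha : 0 < a)
    (ha₀ : 0 < a₀) (hres : (fun n : N => χ n) = (a : ℂ) • θ)
    (hres₀ : (fun n : N₀ => χ n) = (a₀ : ℂ) • θ₀) :
    ∃ e : ℕ, θ 1 = e * θ₀ 1 ∧ e ∣ N₀.relIndex N ∧ e ^ 2 ≤ N₀.relIndex N ∧ 0 < e := by
  classical
  let L := N₀.subgroupOf N
  haveI : L.Normal := Subgroup.normal_subgroupOf
  let E : L ≃* N₀ := Subgroup.subgroupOfEquivOfLe hle
  let θ' : L → ℂ := fun x => θ₀ (E x)
  have hθ' : Cfsg.IsIrrCharacter L θ' := isIrr_comp E.toMonoidHom E.surjective hθ₀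
  have haC : (a : ℂ) ≠ 0 := Nat.cast_ne_zero.mpr ha.ne'
  have hpt : ∀ x : L, θ x = ((a₀ : ℂ) / a) * θ' x := fun x => by
    have h1 : χ ((x : N) : G) = (a : ℂ) * θ x := congrFun hres x
    have h2 : χ ((E x : N₀) : G) = (a₀ : ℂ) * θ' x := congrFun hres₀ (E x)
    have h3 : ((E x : N₀) : G) = ((x : N) : G) := rfl
    rw [h3, h1] at h2
    field_simp
    linear_combination h2
  obtain ⟨e, he⟩ := classInner_character_irr (isCharacter_restrict L (isCharacter_of_isIrr hθ)) hθ'
  have heq : ((a₀ : ℂ) / a) = e := by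
    rw [← he, show (fun x : L => θ x) = ((a₀ : ℂ) / a) • θ' from funext hpt, classInner_smul_left,
      classInner_isIrr_self hθ', mul_one]
  have he0 : 0 < e := Nat.pos_of_ne_zero fun h0 => by
    rw [h0, Nat.cast_zero, div_eq_zero_iff] at heq
    exact heq.elim (Nat.cast_ne_zero.mpr ha₀.ne') haC
  have hres' : (fun x : L => θ x) = (e : ℂ) • θ' := funext fun x => by rw [hpt, heq]; rfl
  refine ⟨e, ?_, ?_, ?_, he0⟩
  · have := congrFun hres' 1
    simpa [θ'] using this
  · exact ExtensionCriteria.ramification_dvd_index L hθ' (fun t x => congrFun (hinv (t : G)) (E x))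
      hθ he0 hres'
  · -- the norm of the restriction
    have h1 := classInner_isIrr_self hθ'
    have h2 := classInner_isIrr_self hθ
    simp only [Cfsg.classInner, Complex.mul_conj, inv_mul_eq_div, ← Complex.ofReal_sum,
      div_eq_one_iff_eq natCard_ne_zero] at h1 h2
    have h1' : ∑ x : L, Complex.normSq (θ' x) = Nat.card L := by exact_mod_cast h1
    have h2' : ∑ x : N, Complex.normSq (θ x) = Nat.card N := by exact_mod_cast h2
    have h3 : (e : ℝ) ^ 2 * Nat.card L ≤ Nat.card N := by
      rw [← h1', ← h2', Finset.mul_sum]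
      refine le_trans (le_of_eq ?_) (Finset.sum_le_sum_of_subset_of_nonneg
        (Finset.subset_univ (Finset.univ.map ⟨Subtype.val, (Subtype.val_injective :
          Function.Injective (Subtype.val : L → N))⟩)) fun x _ _ => Complex.normSq_nonneg _)
      rw [Finset.sum_map]
      refine Finset.sum_congr rfl fun x _ => ?_
      show (e : ℝ) ^ 2 * Complex.normSq (θ' x) = Complex.normSq (θ x)
      rw [congrFun hres' x, Pi.smul_apply, smul_eq_mul, map_mul, Complex.normSq_natCast, sq]
    have h4 : e ^ 2 * Nat.card L ≤ L.index * Nat.card L := by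
      rw [Subgroup.index_mul_card]
      exact_mod_cast h3
    exact Nat.le_of_mul_le_mul_right h4 Nat.card_pos

/-- The sum over `g` of the `p`-exponents of `|C_N(g)|` leaves room for the degree. -/
theorem sum_inf_centralizer_le (hsolv : Group.IsSolvable G) (p : ℕ) [Fact p.Prime] {χ : G → ℂ}
    (hχ : Cfsg.IsIrrCharacter G χ)
    (hprim : ¬ ∃ (H : Subgroup G), H ≠ ⊤ ∧ ∃ θ : ↥H → ℂ,
      Cfsg.IsCharacter ↥H θ ∧ Cfsg.indFun H θ = χ)
    (N : Subgroup G) [N.Normal] [Fintype N] {θ : N → ℂ} (hθ : Cfsg.IsIrrCharacter N θ) {a : ℕ}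
    (ha : 0 < a) (hres : (fun n : N => χ n) = (a : ℂ) • θ) (d : ℕ) (hd : θ 1 = d) :
    ∑ g : G, (Nat.card ↥(N ⊓ Subgroup.centralizer ({g} : Set G))).factorization p +
        Fintype.card G * d.factorization p ≤
      Fintype.card G * (Nat.card N).factorization p := by
  classical
  induction hc : Nat.card N using Nat.strong_induction_on generalizing N θ a d with
  | _ m ih =>
  subst hc
  have hpp := (Fact.out : p.Prime)
  by_cases hN : N = ⊥
  · subst hN
    have h1 : d = 1 := by
      have := CfsgLib.Codegree.charDegree_dvd_card (⟨θ, hθ⟩ : Cfsg.IrrCharacter (⊥ : Subgroup G))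
      rw [CfsgLib.Codegree.charDegree_eq_of_apply_one θ d hd, Subgroup.card_bot] at this
      exact Nat.dvd_one.mp this
    subst h1
    simp
  obtain ⟨N₀, -, hmax⟩ := Finite.exists_le_maximal (p := fun M : Subgroup G => M.Normal ∧ M < N)
    (a := ⊥) ⟨inferInstance, bot_lt_iff_ne_bot.mpr hN⟩
  obtain ⟨hN₀, hlt⟩ := hmax.prop
  haveI := hN₀
  haveI := Fintype.ofFinite N₀
  obtain ⟨θ₀, a₀, hθ₀, ha₀, hres₀, hinv⟩ := exists_homogeneous hχ hprim N₀
  obtain ⟨d₀, hd₀pos, hd₀⟩ := exists_degree_pos hθ₀
  obtain ⟨e, he1, hedvd, hesq, he0⟩ :=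
    exists_ramification N₀ N hlt.le hθ hθ₀ hinv ha ha₀ hres hres₀
  have hde : d = e * d₀ := by
    apply Nat.cast_injective (R := ℂ)
    rw [← hd, he1, hd₀, Nat.cast_mul]
  have hIH := ih _ (lt_of_le_of_ne (Subgroup.card_le_of_le hlt.le) fun h =>
    hlt.ne (Subgroup.eq_of_le_of_card_ge hlt.le h.ge)) N₀ hθ₀ ha₀ hres₀ d₀ hd₀ rfl
  -- the chief factor
  let f := QuotientGroup.mk' N₀
  have hker : f.ker = N₀ := QuotientGroup.ker_mk' N₀
  let V : Subgroup (G ⧸ N₀) := N.map f
  haveI hVn : V.Normal := Subgroup.Normal.map inferInstance f (QuotientGroup.mk'_surjective N₀)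
  have hcardN : Nat.card N = Nat.card V * Nat.card N₀ := by
    rw [card_eq_map_mul_inf f N, hker, inf_eq_right.mpr hlt.le]
  have hrel : N₀.relIndex N = Nat.card V := by
    refine Nat.eq_of_mul_eq_mul_right (Nat.card_pos (α := N₀)) ?_
    rw [← hcardN, Subgroup.relIndex,
      ← Nat.card_congr (Subgroup.subgroupOfEquivOfLe hlt.le).toEquiv, Subgroup.index_mul_card]
  rw [hrel] at hedvd hesq
  have hV0 : V ≠ ⊥ := fun h => by
    rw [Subgroup.map_eq_bot_iff, hker] at h
    exact hlt.not_ge h
  have hVmin : ∀ W : Subgroup (G ⧸ N₀), W.Normal → W ≤ V → W = ⊥ ∨ W = V := by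
    intro W hW hWV
    have hcomap : W.comap f ≤ N := by
      refine (Subgroup.comap_mono hWV).trans (le_of_eq ?_)
      exact CfsgLib.Solvable.comap_map_mk'_of_le hlt.le
    have hle0 : N₀ ≤ W.comap f := fun x hx => by
      show f x ∈ W
      rw [show f x = 1 from (QuotientGroup.eq_one_iff x).mpr hx]
      exact W.one_mem
    rcases hcomap.eq_or_lt with h | h
    · refine Or.inr (le_antisymm hWV ?_)
      show N.map f ≤ W
      rw [← h]
      exact Subgroup.map_comap_le f W
    · left
      have h2 := hmax.le_of_ge (y := W.comap f) ⟨hW.comap f, h⟩ hle0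
      rw [← Subgroup.map_comap_eq_self_of_surjective (QuotientGroup.mk'_surjective N₀) W]
      rw [Subgroup.map_eq_bot_iff, hker]
      exact h2
  haveI : Group.IsSolvable (G ⧸ N₀) :=
    haveI := hsolv
    Group.isSolvable_of_surjective (QuotientGroup.mk'_surjective N₀)
  obtain ⟨r, hr, hVr⟩ := CfsgLib.Solvable.exists_isPGroup_of_minimal_normal hV0 hVmin
  haveI := Fact.mk hr
  letI : CommGroup V := { (inferInstance : Group V) with
    mul_comm := fun x y => Subtype.ext (CfsgLib.Solvable.mul_comm_of_minimal_normal hV0 hVmin x x.2 y y.2) }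
  let φ : G →* MulAut V := (MulAut.conjNormal (H := V)).comp f
  -- one centraliser
  have himage : ∀ g : G, Nat.card ((N ⊓ Subgroup.centralizer ({g} : Set G)).map f) ∣
      Nat.card (fix1 φ g) := by
    intro g
    rw [Nat.card_congr (Subgroup.equivMapOfInjective (fix1 φ g) V.subtype V.subtype_injective).toEquiv]
    refine Subgroup.card_dvd_of_le ?_
    rintro _ ⟨x, ⟨hxN, hxc⟩, rfl⟩
    refine ⟨⟨f x, Subgroup.mem_map_of_mem f hxN⟩, Subtype.ext ?_, rfl⟩
    show f g * f x * (f g)⁻¹ = f x
    rw [← map_mul, ← Subgroup.mem_centralizer_singleton_iff.mp hxc, map_mul, mul_inv_cancel_right]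
  have hsplit : ∀ g : G, (Nat.card ↥(N ⊓ Subgroup.centralizer ({g} : Set G))).factorization p ≤
      (Nat.card (fix1 φ g)).factorization p +
        (Nat.card ↥(N₀ ⊓ Subgroup.centralizer ({g} : Set G))).factorization p := by
    intro g
    rw [card_eq_map_mul_inf f, hker,
      show (N ⊓ Subgroup.centralizer ({g} : Set G)) ⊓ N₀ = N₀ ⊓ Subgroup.centralizer {g} by
        rw [inf_comm, ← inf_assoc, inf_eq_left.mpr hlt.le],
      Nat.factorization_mul Nat.card_pos.ne' Nat.card_pos.ne', Finsupp.add_apply]
    exact Nat.add_le_add_right ((Nat.factorization_le_iff_dvd Nat.card_pos.ne' Nat.card_pos.ne').mpr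
      (himage g) p) _
  have hkey : ∑ g : G, (Nat.card (fix1 φ g)).factorization p + Fintype.card G * e.factorization p ≤
      Fintype.card G * (Nat.card V).factorization p := by
    have hev : e.factorization p ≤ (Nat.card V).factorization p :=
      (Nat.factorization_le_iff_dvd he0.ne' Nat.card_pos.ne').mpr hedvd p
    have hfv : ∀ g : G, (Nat.card (fix1 φ g)).factorization p ≤ (Nat.card V).factorization p :=
      fun g => (Nat.factorization_le_iff_dvd Nat.card_pos.ne' Nat.card_pos.ne').mpr
        (Subgroup.card_subgroup_dvd_card _) p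
    have hsumle : ∑ g : G, (Nat.card (fix1 φ g)).factorization p ≤
        Fintype.card G * (Nat.card V).factorization p := by
      have h := Finset.sum_le_sum (s := Finset.univ) fun g _ => hfv g
      rwa [Finset.sum_const, Finset.card_univ, smul_eq_mul] at h
    obtain ⟨k, hk⟩ := IsPGroup.iff_card.mp hVr
    by_cases hrp : r = p
    · subst hrp
      have hesq' : 2 * e.factorization r ≤ (Nat.card V).factorization r := by
        obtain ⟨j, -, hj⟩ := (Nat.dvd_prime_pow hr).mp (hk ▸ hedvd)
        rw [hj, hk, ← pow_mul, Nat.pow_le_pow_iff_right hr.one_lt] at hesq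
        rw [hj, hk, hr.factorization_pow, hr.factorization_pow, Finsupp.single_eq_same,
          Finsupp.single_eq_same]
        omega
      by_cases hφ : φ = 1
      · -- a central chief factor
        have hV1 : Nat.card V = r := by
          obtain ⟨x, hx⟩ := exists_prime_orderOf_dvd_card' (G := V) r
            (hVr.card_eq_or_dvd.resolve_left fun h => hV0 (Subgroup.eq_bot_of_card_eq V h))
          have hWn : (Subgroup.zpowers (x : G ⧸ N₀)).Normal := by
            refine ⟨fun y hy q => ?_⟩
            obtain ⟨g, rfl⟩ := QuotientGroup.mk'_surjective N₀ q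
            have hyV : y ∈ V := Subgroup.zpowers_le.mpr x.2 hy
            have h := congrArg Subtype.val (DFunLike.congr_fun (DFunLike.congr_fun hφ g) ⟨y, hyV⟩)
            rw [show f g * y * (f g)⁻¹ = y from h]
            exact hy
          have hox : orderOf (x : G ⧸ N₀) = r := by rw [Subgroup.orderOf_coe, hx]
          rcases hVmin _ hWn (Subgroup.zpowers_le.mpr x.2) with h | h
          · rw [Subgroup.zpowers_eq_bot] at h
            rw [h, orderOf_one] at hox
            exact absurd hox.symm hr.ne_one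
          · rw [← h, Nat.card_zpowers, hox]
        have he : e.factorization r = 0 := by
          rw [hV1, hr.factorization_self] at hesq'
          omega
        rw [he, mul_zero, add_zero]
        exact hsumle
      · have h := sum_fixed_le (p := r) hVr φ hsolv (fun W hW => ?_) hφ
        · nlinarith
        · have hWn : (W.map V.subtype).Normal := by
            refine ⟨?_⟩
            rintro _ ⟨w, hw, rfl⟩ q
            obtain ⟨g, rfl⟩ := QuotientGroup.mk'_surjective N₀ q
            exact ⟨φ g w, hW g w hw, rfl⟩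
          rcases hVmin _ hWn (Subgroup.map_subtype_le W) with h | h
          · exact Or.inl ((Subgroup.map_eq_bot_iff_of_injective W V.subtype_injective).mp h)
          · right
            refine eq_top_iff.mpr fun w _ => ?_
            obtain ⟨w', hw', hww⟩ : (w : G ⧸ N₀) ∈ W.map V.subtype := h.ge w.2
            rwa [← Subtype.ext hww]
    · have hv0 : (Nat.card V).factorization p = 0 := by
        rw [hk, hr.factorization_pow, Finsupp.single_eq_of_ne (Ne.symm hrp)]
      rw [hv0] at hev hsumle ⊢
      rw [Nat.le_zero.mp hev]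
      simpa using hsumle
  have hsum := Finset.sum_le_sum (s := Finset.univ) fun g _ => hsplit g
  rw [Finset.sum_add_distrib] at hsum
  rw [hde, Nat.factorization_mul he0.ne' hd₀pos.ne', hcardN,
    Nat.factorization_mul Nat.card_pos.ne' Nat.card_pos.ne', Finsupp.add_apply, Finsupp.add_apply]
  linarith

/-- In a solvable group the `p`-part of a primitive character degree divides some class size. -/
theorem exists_degree_factorization_le (hsolv : Group.IsSolvable G) (p : ℕ) [Fact p.Prime]
    (χ : Cfsg.IrrCharacter G)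
    (hprim : ¬ ∃ (H : Subgroup G), H ≠ ⊤ ∧ ∃ θ : ↥H → ℂ,
      Cfsg.IsCharacter ↥H θ ∧ Cfsg.indFun H θ = (χ : G → ℂ)) :
    ∃ g : G, (Cfsg.charDegree (χ : G → ℂ)).factorization p ≤
      ((Subgroup.centralizer ({g} : Set G)).index).factorization p := by
  classical
  haveI := Fintype.ofFinite (⊤ : Subgroup G)
  have hθ : Cfsg.IsIrrCharacter (⊤ : Subgroup G) fun n => (χ : G → ℂ) n :=
    isIrr_comp (Subgroup.topEquiv (G := G)).toMonoidHom (Subgroup.topEquiv (G := G)).surjective χ.2
  obtain ⟨d, -, hd⟩ := exists_degree_pos χ.2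
  have h := sum_inf_centralizer_le hsolv p χ.2 hprim ⊤ hθ Nat.one_pos (by simp) d hd
  simp only [top_inf_eq, Subgroup.card_top] at h
  rw [CfsgLib.Codegree.charDegree_eq_of_apply_one _ d hd]
  have hidx : ∀ g : G, (Nat.card G).factorization p =
      ((Subgroup.centralizer ({g} : Set G)).index).factorization p +
        (Nat.card (Subgroup.centralizer ({g} : Set G))).factorization p := fun g => by
    conv_lhs => rw [← Subgroup.index_mul_card (Subgroup.centralizer ({g} : Set G))]
    rw [Nat.factorization_mul Subgroup.index_ne_zero_of_finite Nat.card_pos.ne', Finsupp.add_apply]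
  by_contra! hlt
  have hs : ∑ g : G, ((Subgroup.centralizer ({g} : Set G)).index).factorization p <
      Fintype.card G * d.factorization p := by
    calc _ < ∑ _g : G, d.factorization p :=
          Finset.sum_lt_sum_of_nonempty Finset.univ_nonempty fun g _ => hlt g
      _ = _ := by rw [Finset.sum_const, Finset.card_univ, smul_eq_mul]
  have htot : Fintype.card G * (Nat.card G).factorization p =
      ∑ g : G, ((Subgroup.centralizer ({g} : Set G)).index).factorization p +
        ∑ g : G, (Nat.card (Subgroup.centralizer ({g} : Set G))).factorization p := by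
    rw [← Finset.sum_add_distrib, ← Finset.sum_congr rfl fun g _ => hidx g, Finset.sum_const,
      Finset.card_univ, smul_eq_mul]
  omega

end CfsgLib.PrimitiveClassSize
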